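import Groth.Agent.ResProp.EF.F5.Iface
import Mathlib.Algebra.Homology.DerivedCategory.TStructure
import Mathlib.Algebra.Homology.DerivedCategory.ShortExact
import Mathlib.CategoryTheory.Triangulated.Yoneda

/-!
# `Y ↦ Hom_{D(D)}(O, Θ Y)` is a cohomological functor on bounded complexes (`F5.Coh`)

Node (c1) of F5: generic half.
-/

set_option autoImplicit false

universe t w v u w' v'

open CategoryTheory CategoryTheory.Limits HomologicalComplex Pretriangulated DerivedCategory

namespace Groth.Agent.ResProp.EF.K110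

open Groth.Agent.ResProp.EF.F5

variable {C : Type v} [Category.{w} C] [Abelian C]
  {D : Type v'} [Category.{w'} D] [Abelian D] [HasDerivedCategory.{t} D]

/-- `Y ↦ Hom_{D(D)}(O, Θ Y)` -/
noncomputable abbrev homFrom (O : DerivedCategory D) (Θ : CochainComplex C ℤ ⥤ CochainComplex D ℤ) :
    CochainComplex C ℤ ⥤ AddCommGrpCat.{t} :=
  Θ ⋙ Q ⋙ preadditiveCoyoneda.obj (Opposite.op O)

/-- **(c1), generic half.** -/
theorem coh_homFrom (O : DerivedCategory D) (hO : O.IsLE 0)
    (Θ : CochainComplex C ℤ ⥤ CochainComplex D ℤ) [Θ.Additive]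
    (hex : ∀ S : ShortComplex (CochainComplex C ℤ), S.ShortExact → Bdd S.X₁ → Bdd S.X₂ → Bdd S.X₃ →
      (S.map Θ).ShortExact)
    (a : ℤ) (hv : ∀ (N : ℤ) (Z : CochainComplex C ℤ), Bdd Z → (∀ i ≤ N, Z.ExactAt i) →
      ∀ i ≤ N + a, (Θ.obj Z).ExactAt i) :
    Coh (homFrom O Θ) where
  additive := inferInstance
  exact S hS h1 h2 h3 x hx := by
    have hT := triangleOfSES_distinguished (hex S hS h1 h2 h3)
    obtain ⟨y, hy⟩ := Triangle.coyoneda_exact₂ _ hT x hx
    exact ⟨y, hy.symm⟩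
  vanish := by
    refine ⟨-a, fun Z hZ hex' x ↦ ?_⟩
    have h0 : (Θ.obj Z).IsGE 1 := by
      rw [CochainComplex.isGE_iff]
      intro i hi
      exact hv (-a) Z hZ hex' i (by lia)
    have h1 : (Q.obj (Θ.obj Z)).IsGE 1 := inferInstance
    exact TStructure.t.zero (X := O) (Y := Q.obj (Θ.obj Z)) x 0 1 (by lia)

end Groth.Agent.ResProp.EF.K110
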