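import Groth.Agent.ResProp.EF.K294.Tor
import Groth.Agent.ResProp.EF.K476.MumBdd
import Groth.Agent.ResProp.EF.K110.CohHom
import Groth.Agent.Cohder.CoconeSES
import Mathlib.CategoryTheory.Abelian.ShortExact

/-!
# Tensoring bounded below complexes with a bounded below complex of flat objects

`T : C₁ ⥤ C₂ ⥤ D` additive in both variables.

* `exactAt_total`: `L ≥ l`, `N ≥ a` (both bounded below, `N` NOT bounded above), `T(L, N^n)` exact at `i - n` for all
  `n ≥ a` ⟹ `T(L, N)` exact at `i`.
* `exactAt_of_le`: `T(-, N^n)` exact functors, `L` bounded below and exact in degrees `≤ M` ⟹ `T(L, N)` exact in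
  degrees `≤ M + a`.
* `quasiIso_total`: `T(f, N)` is a quasi-isomorphism for `f` a quasi-isomorphism of bounded below complexes.
* the same over an abstract chart, `Ψ` bounded below with `us Ψ^n` flat, and `shortExact_total`.
-/

set_option autoImplicit false
set_option backward.defeqAttrib.useBackward true
set_option backward.isDefEq.respectTransparency false

universe t v u v₁ v₂ v₃ u₁ u₂ u₃ w

open CategoryTheory CategoryTheory.Limits MonoidalCategory HomologicalComplex

namespace Groth.Agent.ResProp.EF.K110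

open Groth.Agent.Dcoh.CxFun Groth.Agent.Dcoh.KFlatAbs Groth.Agent.Dcoh.KFlatSingle Groth.Agent.Dcoh.Sigma
  Groth.Agent.ResProp.EF.K476.MumBdd

section

variable {C₁ : Type u₁} {C₂ : Type u₂} {D : Type u₃} [Category.{v₁} C₁] [Category.{v₂} C₂] [Category.{v₃} D]
  [Abelian C₁] [Abelian C₂] [Abelian D]
  (T : C₁ ⥤ C₂ ⥤ D) [T.Additive] [∀ X₁, (T.obj X₁).Additive]
  [∀ (K₁ : CochainComplex C₁ ℤ) (K₂ : CochainComplex C₂ ℤ), CochainComplex.HasMapBifunctor K₁ K₂ T]

lemma isZero_total_X (L : CochainComplex C₁ ℤ) (N : CochainComplex C₂ ℤ) (j : ℤ)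
    (h : ∀ p q : ℤ, p + q = j → IsZero ((T.obj (L.X p)).obj (N.X q))) :
    IsZero (((T.map₂CochainComplex.obj L).obj N).X j) := by
  rw [IsZero.iff_id_eq_zero]
  refine mapBifunctor.hom_ext (K₁ := L) (K₂ := N) (F := T) (c := ComplexShape.up ℤ) (fun p q hpq => ?_)
  exact (h p q hpq).eq_of_src _ _

lemma exactAt_of_isZero_X {E : CochainComplex D ℤ} {i : ℤ} (h : IsZero (E.X i)) : E.ExactAt i :=
  HomologicalComplex.ExactAt.of_isZero h

/-- **exactness of the total complex of two bounded below complexes** -/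
theorem exactAt_total (L : CochainComplex C₁ ℤ) (N : CochainComplex C₂ ℤ) (l a : ℤ)
    [L.IsStrictlyGE l] [N.IsStrictlyGE a] (i : ℤ)
    (h : ∀ n : ℤ, a ≤ n →
      (((T.flip.obj (N.X n)).mapHomologicalComplex (ComplexShape.up ℤ)).obj L).ExactAt (i - n)) :
    ((T.map₂CochainComplex.obj L).obj N).ExactAt i := by
  set b : ℤ := max a (i - l) with hb
  have key : ∀ m : ℕ, ((T.map₂CochainComplex.obj L).obj (sig N (b + 1 - m))).ExactAt i := by
    intro m
    induction m with
    | zero =>
      refine exactAt_of_isZero_X (isZero_total_X T L _ i (fun p q hpq => ?_))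
      by_cases hp : p < l
      · exact (T.flip.obj _).map_isZero (L.isZero_of_isStrictlyGE l p hp)
      · exact (T.obj _).map_isZero (isZero_sig_X N (by push_cast; omega))
    | succ m hm =>
      have h1 : ((T.map₂CochainComplex.obj L).obj (sig N (b - m + 1))).ExactAt i := by
        rwa [show b - m + 1 = b + 1 - m by lia]
      have h2 : ((T.map₂CochainComplex.obj L).obj
          ((single C₂ (ComplexShape.up ℤ) (b - m)).obj (N.X (b - m)))).ExactAt i := by
        by_cases ha : a ≤ b - m
        · exact exactAt_single T L _ _ _ (h _ ha)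
        · have h0 : IsZero ((T.map₂CochainComplex.obj L).obj
              ((single C₂ (ComplexShape.up ℤ) (b - m)).obj (N.X (b - m)))) :=
            Functor.map_isZero _ (Functor.map_isZero _ (N.isZero_of_isStrictlyGE a _ (by lia)))
          rw [HomologicalComplex.exactAt_iff_isZero_homology]
          exact (HomologicalComplex.homologyFunctor D (ComplexShape.up ℤ) i).map_isZero h0
      have hS : ((sigShort N (b - m)).map (T.map₂CochainComplex.obj L)).ShortExact :=
        HomologicalComplex.shortExact_of_degreewise_shortExact _ (fun n =>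
          (splitting₂ T (sigShort N (b - m)) (sigSplitting N (b - m)) L n).shortExact)
      rw [show b + 1 - ((m + 1 : ℕ) : ℤ) = b - m by lia]
      exact hS.exactAt_X₂ i h1 h2
  have h3 := key (b + 1 - a).toNat
  have hle : b + 1 - ((b + 1 - a).toNat : ℤ) ≤ a := by omega
  have : IsIso (sigι N (b + 1 - ((b + 1 - a).toNat : ℤ))) := by
    have : ∀ j, IsIso ((sigι N (b + 1 - ((b + 1 - a).toNat : ℤ))).f j) := by
      intro j
      by_cases hj : b + 1 - ((b + 1 - a).toNat : ℤ) ≤ j
      · exact isIso_sigι_f N hj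
      · exact ⟨0, (isZero_sig_X N hj).eq_of_src _ _,
          (N.isZero_of_isStrictlyGE a j (by lia)).eq_of_src _ _⟩
    exact HomologicalComplex.Hom.isIso_of_components _
  exact h3.of_iso ((T.map₂CochainComplex.obj L).mapIso (asIso (sigι N (b + 1 - ((b + 1 - a).toNat : ℤ)))))

/-- lower bounds -/
theorem exactAt_of_le (L : CochainComplex C₁ ℤ) (N : CochainComplex C₂ ℤ) (l a M : ℤ)
    [L.IsStrictlyGE l] [N.IsStrictlyGE a] (hN : ∀ n : ℤ, (T.flip.obj (N.X n)).PreservesHomology)
    (hL : ∀ i ≤ M, L.ExactAt i) (i : ℤ) (hi : i ≤ M + a) :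
    ((T.map₂CochainComplex.obj L).obj N).ExactAt i := by
  refine exactAt_total T L N l a i (fun n hn => ?_)
  have := hN n
  exact (hL (i - n) (by omega)).map (T.flip.obj (N.X n))

/-- acyclicity -/
theorem acyclic_total (L : CochainComplex C₁ ℤ) (N : CochainComplex C₂ ℤ) (l a : ℤ)
    [L.IsStrictlyGE l] [N.IsStrictlyGE a] (hN : ∀ n : ℤ, (T.flip.obj (N.X n)).PreservesHomology)
    (hL : L.Acyclic) : ((T.map₂CochainComplex.obj L).obj N).Acyclic :=
  fun i => exactAt_of_le T L N l a (i - a) hN (fun j _ => hL j) i (by omega)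

/-- quasi-isomorphisms -/
theorem quasiIso_total {L L' : CochainComplex C₁ ℤ} (f : L ⟶ L') [QuasiIso f] (N : CochainComplex C₂ ℤ)
    (l a : ℤ) [L.IsStrictlyGE l] [L'.IsStrictlyGE l] [N.IsStrictlyGE a]
    (hN : ∀ n : ℤ, (T.flip.obj (N.X n)).PreservesHomology) :
    QuasiIso ((T.map₂CochainComplex.map f).app N) := by
  have : (CochainComplex.mappingCone f).IsStrictlyGE (l - 1) := by
    rw [CochainComplex.isStrictlyGE_iff]
    intro j hj
    rw [IsZero.iff_id_eq_zero]
    refine CochainComplex.mappingCone.ext_from f (j + 1) j (by omega) ?_ ?_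
    · exact (L.isZero_of_isStrictlyGE l (j + 1) (by omega)).eq_of_src _ _
    · exact (L'.isZero_of_isStrictlyGE l j (by omega)).eq_of_src _ _
  refine (acyclic_mappingCone_iff (T.map₂CochainComplex.flip.obj N) f).1 ?_
  refine acyclic_total T (CochainComplex.mappingCone f) N (l - 1) a hN ?_
  exact (Groth.Agent.Cohder.CoconeSES.acyclic_mappingCone_iff f).2 inferInstance

end

section Chart

open Groth.Agent.ResProp.EF.K294 Groth.Agent.PerfB.RingKFlat Groth.Agent.PerfB

/-- tensoring a short exact sequence of complexes of modules with a complex of flat modules -/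
lemma shortExact_tensR {A : Type u} [CommRing A] {S : ShortComplex (CM A)} (hS : S.ShortExact) {L : CM A}
    (hL : ∀ n : ℤ, Module.Flat A (L.X n)) : (S.map (tensR L)).ShortExact := by
  have : HasExactColimitsOfShape ℕ (ModuleCat.{u} A) := hasExactColimitsOfShape_nat A
  have : CountableAB4 (ModuleCat.{u} A) := by
    have : HasFiniteBiproducts (ModuleCat.{u} A) := Abelian.hasFiniteBiproducts
    have : HasFilteredColimitsOfSize.{0, 0} (ModuleCat.{u} A) := inferInstance
    have : AB5OfSize.{0, 0} (ModuleCat.{u} A) := AB5OfSize_of_univLE.{0, 0, u, u} (ModuleCat.{u} A)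
    exact CountableAB4.of_countableAB5 _
  refine Groth.Agent.Dcoh.KFlatSES.shortExact_map_flip (TR A) L S (fun p q => ?_)
  have h1 : (S.map (eval (ModuleCat.{u} A) (ComplexShape.up ℤ) p)).ShortExact := hS.map_of_exact (eval _ _ p)
  have h2 := hL q
  have h3 : ((TR A).flip.obj (L.X q)).PreservesHomology :=
    Groth.Agent.Htor.H240.FlatTens.preservesHomology_tensorRight _ h2
  exact h1.map_of_exact _

variable {A : Type u} [CommRing A] {C : Type v} [Category.{w} C] [Abelian C] (X : Chart A C)

instance : PreservesColimitsOfSize.{0, 0} X.us := X.adj.leftAdjoint_preservesColimits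

instance : PreservesFiniteColimits X.us := by
  have := X.adj.leftAdjoint_preservesColimits
  infer_instance

instance : X.us.PreservesHomology := inferInstance

/-- exactness is tested on the chart -/
lemma exactAt_usC_iff (K : CochainComplex C ℤ) (i : ℤ) : (X.usC.obj K).ExactAt i ↔ K.ExactAt i :=
  (K.sc i).exact_map_iff_of_faithful X.us

/-- short exactness is tested on the chart -/
lemma shortExact_of_usC {S : ShortComplex (CochainComplex C ℤ)} (h : (S.map X.usC).ShortExact) : S.ShortExact := by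
  refine HomologicalComplex.shortExact_of_degreewise_shortExact _ (fun n => ?_)
  have h1 : ((S.map X.usC).map (eval (ModuleCat.{u} A) (ComplexShape.up ℤ) n)).ShortExact := h.map_of_exact _
  exact CategoryTheory.ShortExact.reflects_shortExact_of_faithful X.us h1

variable (TC : C ⥤ C ⥤ C) [TC.Additive] [∀ M, (TC.obj M).Additive]
  [∀ K L : CochainComplex C ℤ, CochainComplex.HasMapBifunctor K L TC]
  (c : BifCompare.Data TC (TR A) X.us X.us X.us)

/-- objectwise comparison -/
noncomputable def flipIso (F : C) : TC.flip.obj F ⋙ X.us ≅ X.us ⋙ (TR A).flip.obj (X.us.obj F) :=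
  NatIso.ofComponents (fun M => c.e M F) (fun f => c.nat₁ f F)

include c in
omit [∀ M, (TC.obj M).Additive] [∀ K L : CochainComplex C ℤ, CochainComplex.HasMapBifunctor K L TC] in
/-- `M ↦ M ⊗ F` is exact for `us F` flat. -/
lemma preservesHomology_of_flat (F : C) (hF : Module.Flat A (X.us.obj F)) :
    (TC.flip.obj F).PreservesHomology := by
  refine Functor.preservesHomology_of_map_exact _ (fun S hS => ?_)
  rw [← (S.map (TC.flip.obj F)).exact_map_iff_of_faithful X.us]
  have h1 : ((TR A).flip.obj (X.us.obj F)).PreservesHomology :=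
    Groth.Agent.Htor.H240.FlatTens.preservesHomology_tensorRight _ hF
  have h2 : ((S.map X.us).map ((TR A).flip.obj (X.us.obj F))).Exact := (hS.map X.us).map _
  exact ShortComplex.exact_of_iso (S.mapNatIso (flipIso X TC c F).symm) h2

/-- comparison on complexes -/
noncomputable def totalIso (Ψ : CochainComplex C ℤ) :
    TC.map₂CochainComplex.flip.obj Ψ ⋙ X.usC ≅ X.usC ⋙ tensR (X.usC.obj Ψ) :=
  NatIso.ofComponents (fun Y => (BifCompare.iso c Y Ψ).symm) (fun {Y Y'} f => by
    have h := BifCompare.iso_naturality c f (𝟙 Ψ)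
    rw [CategoryTheory.Functor.map_id] at h
    exact (Iso.eq_inv_comp _).2 (by
      rw [← Category.assoc]
      exact (Iso.comp_inv_eq _).2 h.symm))

include c in
/-- (T1) -/
theorem shortExact_total {S : ShortComplex (CochainComplex C ℤ)} (hS : S.ShortExact) (Ψ : CochainComplex C ℤ)
    (hΨ : ∀ n : ℤ, Module.Flat A (X.us.obj (Ψ.X n))) :
    (S.map (TC.map₂CochainComplex.flip.obj Ψ)).ShortExact := by
  refine shortExact_of_usC X ?_
  have h1 : (S.map X.usC).ShortExact := hS.map_of_exact _
  exact ShortComplex.shortExact_of_iso (S.mapNatIso (totalIso X TC c Ψ).symm) (shortExact_tensR h1 hΨ)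

include c in
/-- (T2) -/
theorem exactAt_total_chart (Z Ψ : CochainComplex C ℤ) (l a N : ℤ) [Z.IsStrictlyGE l] [Ψ.IsStrictlyGE a]
    (hΨ : ∀ n : ℤ, Module.Flat A (X.us.obj (Ψ.X n))) (hZ : ∀ i ≤ N, Z.ExactAt i) (i : ℤ) (hi : i ≤ N + a) :
    ((TC.map₂CochainComplex.flip.obj Ψ).obj Z).ExactAt i :=
  exactAt_of_le TC Z Ψ l a N (fun n => preservesHomology_of_flat X TC c _ (hΨ n)) hZ i hi

include c in
/-- (T3) -/
theorem quasiIso_total_chart {Z Z' : CochainComplex C ℤ} (f : Z ⟶ Z') [QuasiIso f] (Ψ : CochainComplex C ℤ)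
    (l a : ℤ) [Z.IsStrictlyGE l] [Z'.IsStrictlyGE l] [Ψ.IsStrictlyGE a]
    (hΨ : ∀ n : ℤ, Module.Flat A (X.us.obj (Ψ.X n))) :
    QuasiIso ((TC.map₂CochainComplex.flip.obj Ψ).map f) :=
  quasiIso_total TC f Ψ l a (fun n => preservesHomology_of_flat X TC c _ (hΨ n))

open Opposite Groth.Agent.ResProp.EF.F5 in
include c in
/-- **(c1), derived category form**: `Y ↦ Hom_{D(C)}(O, Y ⊗ Ψ)` is a cohomological functor. -/
theorem coh_total [HasDerivedCategory.{t} C] (O : DerivedCategory C) (hO : O.IsLE 0) (Ψ : CochainComplex C ℤ)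
    (a : ℤ) [Ψ.IsStrictlyGE a] (hΨ : ∀ n : ℤ, Module.Flat A (X.us.obj (Ψ.X n))) :
    Coh (homFrom O (TC.map₂CochainComplex.flip.obj Ψ)) :=
  coh_homFrom O hO (TC.map₂CochainComplex.flip.obj Ψ)
    (fun S hS _ _ _ => shortExact_total X TC c hS Ψ hΨ) a
    (fun N Z hZ hex i hi => by
      obtain ⟨l, _, h1, _⟩ := hZ
      exact exactAt_total_chart X TC c Z Ψ l a N hΨ hex i hi)

end Chart

end Groth.Agent.ResProp.EF.K110
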