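import Groth.Agent.ResProp.EF.K110.TensFlat
import Groth.Agent.ResProp.EF.K517.Surj2
import Groth.Agent.ResProp.EF.K792.RGPr

/-!
# (c5): the map `ev : H^0(RG(Y ⊗ Ψ)) ⟶ H^0(us Y ⊗ us K)`

`X` an abstract chart, `γ : C ⥤ (SimplexCategory ⥤ Ab)` the cobar functor, `e₀ : c0 γ ≅ us ⋙ forget₂`,
`TC` the tensor product of `C`, `c` its comparison with `⊗_A`; `Ψ`, `K` on the right.

* `tau X γ e₀ : RG γ ⟶ (us ⋙ forget₂).mapHomologicalComplex` : projection to cobar degree `0`;
* `hPsi TC γ Ψ` : `Y ↦ H^0(RG γ (Y ⊗ Ψ))`;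
* `hhIso X TC c K : us H^0(Y ⊗ K) ≅ hh X (us K) Y`, natural in `Y`;
* `ev X TC c γ e₀ ψ : hPsi TC γ Ψ ⟶ hh X (us K) ⋙ forget₂`, `ψ : Ψ ⟶ K`; `ev_app`: it is the edge map followed by `hhIso`.
* `evFun`, `evFun_nat`: elementwise form for `F5.Theta3`.
-/

set_option autoImplicit false
set_option backward.defeqAttrib.useBackward true
set_option backward.isDefEq.respectTransparency false

universe w v u

open CategoryTheory CategoryTheory.Limits HomologicalComplex

namespace Groth.Agent.ResProp.EF.K110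

open Groth.Agent.ResProp.EF.K294 Groth.Agent.PerfB.RingKFlat Groth.Agent.PerfB Groth.Agent.ResProp.EF.F5
  Groth.Agent.ResProp.EF.K874 Groth.Agent.ResProp.EF.K792

variable {A : Type u} [CommRing A] {C : Type v} [Category.{w} C] [Abelian C] (X : Chart A C)

/-- `us`, as a functor to abelian groups. -/
noncomputable abbrev usG : C ⥤ AddCommGrpCat.{u} := X.us ⋙ forget₂ (ModuleCat.{u} A) AddCommGrpCat.{u}

instance : (usG X).Additive := inferInstance

instance : (usG X).PreservesHomology := inferInstance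

section Tau

variable (γ : C ⥤ (SimplexCategory ⥤ AddCommGrpCat.{u})) [γ.Additive] (e₀ : c0 γ ≅ usG X)

/-- The projection of the total cobar complex to cobar degree `0`. -/
noncomputable def tau : RG γ ⟶ (usG X).mapHomologicalComplex (ComplexShape.up ℤ) :=
  pr γ ≫ (NatIso.mapHomologicalComplex e₀ (ComplexShape.up ℤ)).hom

end Tau

variable (TC : C ⥤ C ⥤ C) [TC.Additive] [∀ M, (TC.obj M).Additive]
  [∀ K L : CochainComplex C ℤ, CochainComplex.HasMapBifunctor K L TC]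

/-- `h_Ψ Y = H^0(RG(Y ⊗ Ψ))`. -/
noncomputable abbrev hPsi (γ : C ⥤ (SimplexCategory ⥤ AddCommGrpCat.{u})) [γ.Additive] (Ψ : CochainComplex C ℤ) :
    CochainComplex C ℤ ⥤ AddCommGrpCat.{u} :=
  TC.map₂CochainComplex.flip.obj Ψ ⋙ RG γ ⋙ homologyFunctor AddCommGrpCat.{u} (ComplexShape.up ℤ) 0

variable (c : BifCompare.Data TC (TR A) X.us X.us X.us)

/-- `us H^0(Y ⊗ K) ≅ H^0(us Y ⊗ us K)` -/
noncomputable def hhIso (K : CochainComplex C ℤ) :
    TC.map₂CochainComplex.flip.obj K ⋙ homologyFunctor C (ComplexShape.up ℤ) 0 ⋙ X.us ≅ hh X (X.usC.obj K) :=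
  NatIso.ofComponents
    (fun Y => (hmap X.us ((TC.map₂CochainComplex.flip.obj K).obj Y) 0).symm ≪≫
      (homologyFunctor (ModuleCat.{u} A) (ComplexShape.up ℤ) 0).mapIso ((totalIso X TC c K).app Y))
    (fun {Y Y'} f => by
      have h1 := hmap_naturality X.us ((TC.map₂CochainComplex.flip.obj K).map f) 0
      have h2 := (totalIso X TC c K).hom.naturality f
      have h3 : (homologyFunctor (ModuleCat.{u} A) (ComplexShape.up ℤ) 0).map
          (X.usC.map ((TC.map₂CochainComplex.flip.obj K).map f)) ≫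
          (homologyFunctor (ModuleCat.{u} A) (ComplexShape.up ℤ) 0).map ((totalIso X TC c K).hom.app Y') =
          (homologyFunctor (ModuleCat.{u} A) (ComplexShape.up ℤ) 0).map ((totalIso X TC c K).hom.app Y) ≫
          (homologyFunctor (ModuleCat.{u} A) (ComplexShape.up ℤ) 0).map
            ((X.usC ⋙ tensR (X.usC.obj K)).map f) := by
        rw [← Functor.map_comp, ← Functor.map_comp]
        exact congrArg _ h2
      change X.us.map (homologyMap ((TC.map₂CochainComplex.flip.obj K).map f) 0) ≫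
          (hmap X.us ((TC.map₂CochainComplex.flip.obj K).obj Y') 0).inv ≫
          (homologyFunctor (ModuleCat.{u} A) (ComplexShape.up ℤ) 0).map ((totalIso X TC c K).hom.app Y') =
        ((hmap X.us ((TC.map₂CochainComplex.flip.obj K).obj Y) 0).inv ≫
          (homologyFunctor (ModuleCat.{u} A) (ComplexShape.up ℤ) 0).map ((totalIso X TC c K).hom.app Y)) ≫
          (homologyFunctor (ModuleCat.{u} A) (ComplexShape.up ℤ) 0).map ((X.usC ⋙ tensR (X.usC.obj K)).map f)
      rw [Category.assoc, ← h3, ← Category.assoc, ← Category.assoc]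
      congr 1
      rw [Iso.comp_inv_eq, Category.assoc]
      exact (Iso.eq_inv_comp _).2 h1.symm)

lemma hhIso_hom_app (K Y : CochainComplex C ℤ) :
    (hhIso X TC c K).hom.app Y = (hmap X.us ((TC.map₂CochainComplex.flip.obj K).obj Y) 0).inv ≫
      (homologyFunctor (ModuleCat.{u} A) (ComplexShape.up ℤ) 0).map ((totalIso X TC c K).hom.app Y) := rfl

variable (γ : C ⥤ (SimplexCategory ⥤ AddCommGrpCat.{u})) [γ.Additive] (e₀ : c0 γ ≅ usG X)

/-- `ev` for `K` itself. -/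
noncomputable def evK (K : CochainComplex C ℤ) :
    hPsi TC γ K ⟶ hh X (X.usC.obj K) ⋙ forget₂ (ModuleCat.{u} A) AddCommGrpCat.{u} where
  app Y := edge (tau X γ e₀) ((TC.map₂CochainComplex.flip.obj K).obj Y) 0 ≫
    (forget₂ (ModuleCat.{u} A) AddCommGrpCat.{u}).map ((hhIso X TC c K).hom.app Y)
  naturality Y Y' f := by
    have h1 := edge_naturality (tau X γ e₀) ((TC.map₂CochainComplex.flip.obj K).map f) 0
    have h2 := (hhIso X TC c K).hom.naturality f
    change homologyMap ((RG γ).map ((TC.map₂CochainComplex.flip.obj K).map f)) 0 ≫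
        edge (tau X γ e₀) ((TC.map₂CochainComplex.flip.obj K).obj Y') 0 ≫ _ =
      (edge (tau X γ e₀) ((TC.map₂CochainComplex.flip.obj K).obj Y) 0 ≫
        (forget₂ (ModuleCat.{u} A) AddCommGrpCat.{u}).map ((hhIso X TC c K).hom.app Y)) ≫
        (forget₂ (ModuleCat.{u} A) AddCommGrpCat.{u}).map ((hh X (X.usC.obj K)).map f)
    rw [← Category.assoc, h1, Category.assoc, Category.assoc, ← Functor.map_comp, ← h2, Functor.map_comp]
    rfl

/-- **(c5)**: `ev : H^0(RG(Y ⊗ Ψ)) ⟶ H^0(us Y ⊗ us K)`. -/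
noncomputable def ev {Ψ K : CochainComplex C ℤ} (ψ : Ψ ⟶ K) :
    hPsi TC γ Ψ ⟶ hh X (X.usC.obj K) ⋙ forget₂ (ModuleCat.{u} A) AddCommGrpCat.{u} :=
  Functor.whiskerRight (TC.map₂CochainComplex.flip.map ψ)
    (RG γ ⋙ homologyFunctor AddCommGrpCat.{u} (ComplexShape.up ℤ) 0) ≫ evK X TC c γ e₀ K

/-- `ev` is the edge map, followed by `us H^0(Y ⊗ Ψ) ⟶ us H^0(Y ⊗ K) ≅ H^0(us Y ⊗ us K)`. -/
lemma ev_app {Ψ K : CochainComplex C ℤ} (ψ : Ψ ⟶ K) (Y : CochainComplex C ℤ) :
    (ev X TC c γ e₀ ψ).app Y = (edge (tau X γ e₀) ((TC.map₂CochainComplex.flip.obj Ψ).obj Y) 0 ≫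
      (usG X).map (homologyMap ((TC.map₂CochainComplex.flip.map ψ).app Y) 0)) ≫
      (forget₂ (ModuleCat.{u} A) AddCommGrpCat.{u}).map ((hhIso X TC c K).hom.app Y) := by
  rw [← edge_naturality (tau X γ e₀) ((TC.map₂CochainComplex.flip.map ψ).app Y) 0, Category.assoc]
  rfl

/-- The map of sets, for `Theta3.ev`. -/
noncomputable def evFun {Ψ K : CochainComplex C ℤ} (ψ : Ψ ⟶ K) (Y : CochainComplex C ℤ)
    (y : (hPsi TC γ Ψ).obj Y) : (hh X (X.usC.obj K)).obj Y :=
  ((ev X TC c γ e₀ ψ).app Y).hom y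

/-- naturality, for `Theta3.ev_nat` -/
theorem evFun_nat {Ψ K : CochainComplex C ℤ} (ψ : Ψ ⟶ K) {Y Y' : CochainComplex C ℤ} (f : Y ⟶ Y')
    (y : (hPsi TC γ Ψ).obj Y) :
    evFun X TC c γ e₀ ψ Y' (((hPsi TC γ Ψ).map f).hom y) =
      ((hh X (X.usC.obj K)).map f).hom (evFun X TC c γ e₀ ψ Y y) :=
  congrArg (fun g => g.hom y) ((ev X TC c γ e₀ ψ).naturality f)

end Groth.Agent.ResProp.EF.K110
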