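import Groth.Agent.ResProp.EF.K874.RG

/-!
# The projection of the total cobar complex onto cobar degree zero

For an additive `c : C ⥤ (SimplexCategory ⥤ D)`, `rgPrj c : RG c ⟶ (c ⋙ ev [0]).mapHomologicalComplex (up ℤ)` is the
projection of the total complex onto the summands of cobar degree `0`; it is a natural transformation of functors to
complexes, since the alternating coface complex vanishes in negative degrees.
-/

set_option autoImplicit false
set_option backward.isDefEq.respectTransparency false
set_option backward.isDefEq.respectTransparency.types false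

universe t w v u

open CategoryTheory CategoryTheory.Limits HomologicalComplex HomologicalComplex₂ ComplexShape

namespace Groth.Agent.ResProp.EF.K110

open K781.Desc Groth.Agent.Htor.H253.TotalPrj K874

variable {C : Type*} [Category* C] [Abelian C] {D : Type u} [Category.{v} D] [Abelian D]
  [HasCountableCoproducts D]
  (c : C ⥤ (SimplexCategory ⥤ D)) [c.Additive]

/-- The functor `M ↦ c(M)_0`. -/
abbrev ev0 : C ⥤ D := c ⋙ (evaluation SimplexCategory D).obj (SimplexCategory.mk 0)

/-- The projection in degree `n`. -/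
noncomputable def rgPrjF (K : CochainComplex C ℤ) (n : ℤ) :
    ((RG c).obj K).X n ⟶ (((ev0 c).mapHomologicalComplex (up ℤ)).obj K).X n :=
  prj ((bi c).obj K) n 0 n ≫ (θ (c.obj (K.X n)) 0 0 rfl).hom

/-- The projection as a morphism of complexes. -/
noncomputable def rgPrjC (K : CochainComplex C ℤ) :
    (RG c).obj K ⟶ ((ev0 c).mapHomologicalComplex (up ℤ)).obj K where
  f n := rgPrjF c K n
  comm' n n' h := by
    have h' : n + 1 = n' := h
    have h1 := d_prj ((bi c).obj K) n n' (-1) 0 n n' h' (by lia) h' (by lia)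
    have h2 : prj ((bi c).obj K) n' (-1) n = 0 := (isZero_neg (c.obj (K.X n')) (-1) (by lia)).eq_of_tgt _ _
    rw [h2, zero_comp, smul_zero, add_zero] at h1
    change (prj ((bi c).obj K) n 0 n ≫ (θ (c.obj (K.X n)) 0 0 rfl).hom) ≫ _ =
      (((bi c).obj K).total (up ℤ)).d n n' ≫ prj ((bi c).obj K) n' 0 n' ≫ (θ (c.obj (K.X n')) 0 0 rfl).hom
    rw [← Category.assoc (((bi c).obj K).total (up ℤ) |>.d n n'), h1, Category.assoc, Category.assoc]
    congr 1
    exact (θ_naturality (c.map (K.d n n')) 0 0 rfl).symm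

/-- **The projection of the total cobar complex onto cobar degree `0`.** -/
noncomputable def rgPrj : RG c ⟶ (ev0 c).mapHomologicalComplex (up ℤ) where
  app K := rgPrjC c K
  naturality K L f := by
    ext n : 1
    change (total.map ((bi c).map f) (up ℤ)).f n ≫ prj ((bi c).obj L) n 0 n ≫ (θ (c.obj (L.X n)) 0 0 rfl).hom =
      (prj ((bi c).obj K) n 0 n ≫ (θ (c.obj (K.X n)) 0 0 rfl).hom) ≫ (c.map (f.f n)).app (SimplexCategory.mk 0)
    rw [← Category.assoc, map_prj, Category.assoc, Category.assoc]
    congr 1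
    exact θ_naturality (c.map (f.f n)) 0 0 rfl

@[simp]
lemma rgPrj_app_f (K : CochainComplex C ℤ) (n : ℤ) :
    ((rgPrj c).app K).f n = prj ((bi c).obj K) n 0 n ≫ (θ (c.obj (K.X n)) 0 0 rfl).hom := rfl

/-- The projection, on the summands. -/
lemma ι_rgPrj (K : CochainComplex C ℤ) (n : ℤ) :
    ((bi c).obj K).ιTotal (up ℤ) n 0 n (add_zero n) ≫ ((rgPrj c).app K).f n = (θ (c.obj (K.X n)) 0 0 rfl).hom := by
  rw [rgPrj_app_f, ← Category.assoc, ι_prj, Category.id_comp]

lemma ι_rgPrj_ne (K : CochainComplex C ℤ) (p q n : ℤ) (h : p + q = n) (hne : p ≠ n) :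
    ((bi c).obj K).ιTotal (up ℤ) p q n h ≫ ((rgPrj c).app K).f n = 0 := by
  rw [rgPrj_app_f, ← Category.assoc, ι_prj_ne _ p q n 0 n h hne, zero_comp]

end Groth.Agent.ResProp.EF.K110
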