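import Groth.Agent.ResProp.EF.K110.Ev
import Groth.Agent.ResProp.EF.K517.C3

/-!
# Seam (c3) - (c5)

* `tau_eq` : `tau X γ e₀ = rgPrj γ ≫ e₀`;
* `edge_tau` : `edge (tau X γ e₀) W n = edge (rgPrj γ) W n ≫ e₀`;
* `evFun_eq` : `evFun ψ Y y = hhIso (e₀ (evC ψ Y y))`;
* `exists_evFun` : **(c3) + (c5)**: for `z` invariant in `c₀ H^0(Y ⊗ K)`, `hhIso (e₀ z)` is a value of some `evFun ψ_i Y`.
-/

set_option autoImplicit false
set_option backward.defeqAttrib.useBackward true
set_option backward.isDefEq.respectTransparency false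
set_option backward.isDefEq.respectTransparency.types false

universe w v u

open CategoryTheory CategoryTheory.Limits HomologicalComplex

namespace Groth.Agent.ResProp.EF.K110

open Groth.Agent.ResProp.EF.K294 Groth.Agent.PerfB.RingKFlat Groth.Agent.PerfB Groth.Agent.ResProp.EF.F5
  Groth.Agent.ResProp.EF.K874 Groth.Agent.ResProp.EF.K792 Groth.Agent.ResProp.EF.K517

variable {A : Type u} [CommRing A] {C : Type v} [Category.{w} C] [Abelian C] (X : Chart A C)
  (γ : C ⥤ (SimplexCategory ⥤ AddCommGrpCat.{u})) [γ.Additive] (e₀ : c0 γ ≅ usG X)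

lemma rgPrj_eq : rgPrj γ = pr γ := rfl

lemma tau_eq : tau X γ e₀ = rgPrj γ ≫ (NatIso.mapHomologicalComplex e₀ (ComplexShape.up ℤ)).hom := rfl

/-- compatibility of `hmap` with natural transformations -/
lemma hmap_natTrans {D : Type*} [Category* D] [Abelian D] {G G' : C ⥤ D} [G.Additive] [G.PreservesHomology]
    [G'.Additive] [G'.PreservesHomology] (α : G ⟶ G') (W : CochainComplex C ℤ) (n : ℤ) :
    homologyMap ((NatTrans.mapHomologicalComplex α (ComplexShape.up ℤ)).app W) n ≫ (hmap G' W n).hom =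
      (hmap G W n).hom ≫ α.app (W.homology n) := by
  have h := NatTrans.app_homology α (W.sc n)
  change α.app (W.homology n) = _ at h
  rw [h]
  change _ = (ShortComplex.mapHomologyIso (W.sc n) G).hom ≫ _
  rw [Iso.hom_inv_id_assoc]
  rfl

variable [PreservesFiniteLimits γ] [PreservesFiniteColimits γ]

instance : (c0 γ).PreservesHomology := inferInstance

/-- the edge maps -/
lemma edge_tau (W : CochainComplex C ℤ) (n : ℤ) :
    edge (tau X γ e₀) W n = edge (rgPrj γ) W n ≫ e₀.hom.app (W.homology n) := by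
  have h := hmap_natTrans e₀.hom W n
  change homologyMap ((rgPrj γ).app W ≫ (NatTrans.mapHomologicalComplex e₀.hom (ComplexShape.up ℤ)).app W) n ≫
    (hmap (usG X) W n).hom = (homologyMap ((rgPrj γ).app W) n ≫ (hmap (c0 γ) W n).hom) ≫ _
  rw [homologyMap_comp, Category.assoc, Category.assoc, ← h]

variable (TC : C ⥤ C ⥤ C) [TC.Additive] [∀ M, (TC.obj M).Additive]
  [∀ K L : CochainComplex C ℤ, CochainComplex.HasMapBifunctor K L TC]
  (c : BifCompare.Data TC (TR A) X.us X.us X.us)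

omit [Abelian C] in
private lemma aux_comm {P Q R Q' R' S : C} (x : P ⟶ Q) (e : Q ⟶ Q') (f₁ : Q' ⟶ R') (f₀ : Q ⟶ R) (e' : R ⟶ R')
    (k : R' ⟶ S) (h : f₀ ≫ e' = e ≫ f₁) : ((x ≫ e) ≫ f₁) ≫ k = (x ≫ f₀) ≫ e' ≫ k := by
  simp only [Category.assoc, reassoc_of% h]

lemma ev_app' {Ψ K : CochainComplex C ℤ} (ψ : Ψ ⟶ K) (Y : CochainComplex C ℤ) :
    (ev X TC c γ e₀ ψ).app Y = evC TC γ ψ Y ≫
      e₀.hom.app (((TC.map₂CochainComplex.obj Y).obj K).homology 0) ≫
      (forget₂ (ModuleCat.{u} A) AddCommGrpCat.{u}).map ((hhIso X TC c K).hom.app Y) := by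
  rw [ev_app, edge_tau]
  exact aux_comm _ _ _ _ _ _ (e₀.hom.naturality (homologyMap ((TC.map₂CochainComplex.obj Y).map ψ) 0))

/-- the class on the chart of an element of `c₀ H^0(Y ⊗ K)` -/
noncomputable def cls (K Y : CochainComplex C ℤ) :
    (c0 γ).obj (((TC.map₂CochainComplex.obj Y).obj K).homology 0) →+ (hh X (X.usC.obj K)).obj Y :=
  (((hhIso X TC c K).hom.app Y).hom.toAddMonoidHom).comp
    (e₀.hom.app (((TC.map₂CochainComplex.obj Y).obj K).homology 0)).hom

lemma evFun_eq {Ψ K : CochainComplex C ℤ} (ψ : Ψ ⟶ K) (Y : CochainComplex C ℤ) (y : (hPsi TC γ Ψ).obj Y) :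
    evFun X TC c γ e₀ ψ Y y = cls X γ e₀ TC c K Y ((evC TC γ ψ Y).hom y) :=
  congrArg (fun g => g.hom y) (ev_app' X γ e₀ TC c ψ Y)

/-- **(c3) + (c5)** -/
theorem exists_evFun (D : K654.RepDatum.{u} X)
    [HasColimitsOfShape D.J C] [PreservesColimitsOfShape D.J γ] [∀ M : C, PreservesColimitsOfShape D.J (TC.obj M)]
    (Y : CochainComplex C ℤ) (hY : F5.Bdd Y)
    (hac : ∀ j < 0, Acyc (RG γ) (((TC.map₂CochainComplex.obj Y).obj D.K).homology j))
    {z : (c0 γ).obj (((TC.map₂CochainComplex.obj Y).obj D.K).homology 0)}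
    (hz : z ∈ K517.inv (rgPrj γ) (((TC.map₂CochainComplex.obj Y).obj D.K).homology 0)) :
    ∃ (i : D.J) (y : (hPsi TC γ (D.Ψ.obj i)).obj Y),
      evFun X TC c γ e₀ (D.c.ι.app i ≫ D.e) Y y = cls X γ e₀ TC c D.K Y z := by
  obtain ⟨i, y, hy⟩ := c3 TC γ c D Y hY hac hz
  refine ⟨i, y, ?_⟩
  rw [evFun_eq]
  exact congrArg _ hy

/-- the subgroup of the invariant classes of `hh X (us K) Y` -/
noncomputable def invG (K Y : CochainComplex C ℤ) : AddSubgroup ((hh X (X.usC.obj K)).obj Y) :=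
  (K517.inv (rgPrj γ) (((TC.map₂CochainComplex.obj Y).obj K).homology 0)).map (cls X γ e₀ TC c K Y)

/-- every invariant class is a value of some `evFun` -/
theorem exists_of_mem_invG (D : K654.RepDatum.{u} X)
    [HasColimitsOfShape D.J C] [PreservesColimitsOfShape D.J γ] [∀ M : C, PreservesColimitsOfShape D.J (TC.obj M)]
    (Y : CochainComplex C ℤ) (hY : F5.Bdd Y)
    (hac : ∀ j < 0, Acyc (RG γ) (((TC.map₂CochainComplex.obj Y).obj D.K).homology j))
    {x : (hh X (X.usC.obj D.K)).obj Y} (hx : x ∈ invG X γ e₀ TC c D.K Y) :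
    ∃ (i : D.J) (y : (hPsi TC γ (D.Ψ.obj i)).obj Y), evFun X TC c γ e₀ (D.c.ι.app i ≫ D.e) Y y = x := by
  obtain ⟨z, hz, rfl⟩ := hx
  exact exists_evFun X γ e₀ TC c D Y hY hac hz

end Groth.Agent.ResProp.EF.K110
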