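import Groth.Agent.ResProp.EF.F5.FromRep
import Groth.Agent.ResProp.EF.K110.EvC3
import Groth.Agent.ResProp.EF.K874.Rep
import Groth.Agent.ResProp.EF.K911.TChart
import Groth.Agent.ResProp.EF.K792.InvEq

/-!
# F5 without the unit object: from the REP datum to `AllHit`

`X` a chart with tensor product `T : K911.TChart X`, `γ` a cobar functor (exact, cocontinuous) with `e₀ : c0 γ ≅ us`
and the coaugmented cobar functor `Xa` of the push-forwards; `D` a REP datum.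

* `GenG X T γ e₀ K` : the output of (c4): natural endomorphisms `act` of `hh X (us K) Y`, `Y` bounded, such that the
  invariant classes `invG` generate everything;
* `allHit_of_repG` : **RepDatum, GenG, acyclicity of `H^j(Y ⊗ K)`, `j < 0` ⟹ AllHit**.
-/

set_option autoImplicit false
set_option backward.defeqAttrib.useBackward true
set_option backward.isDefEq.respectTransparency false
set_option backward.isDefEq.respectTransparency.types false

universe p w v u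

open CategoryTheory CategoryTheory.Limits HomologicalComplex

namespace Groth.Agent.ResProp.EF.K110

open Groth.Agent.ResProp.EF.K294 Groth.Agent.PerfB.RingKFlat Groth.Agent.PerfB Groth.Agent.ResProp.EF.F5
  Groth.Agent.ResProp.EF.K874 Groth.Agent.ResProp.EF.K792 Groth.Agent.ResProp.EF.K517 K781.Desc

attribute [local instance] K911.TChart.add K911.TChart.add_obj K911.TChart.hmb

variable {A : Type u} [CommRing A] {C : Type v} [Category.{w} C] [Abelian C] (X : Chart A C) (T : K911.TChart X)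
  (γ : C ⥤ (SimplexCategory ⥤ AddCommGrpCat.{u})) [γ.Additive] [PreservesFiniteLimits γ] [PreservesFiniteColimits γ]
  (e₀ : c0 γ ≅ usG X)

/-- The output of (c4). -/
structure GenG (K : CochainComplex C ℤ) where
  P : Type p
  act : P → ∀ Y : CochainComplex C ℤ, (hh X (X.usC.obj K)).obj Y →+ (hh X (X.usC.obj K)).obj Y
  act_nat : ∀ (a : P) {Y Y' : CochainComplex C ℤ}, F5.Bdd Y → F5.Bdd Y' → ∀ (f : Y ⟶ Y')
    (z : (hh X (X.usC.obj K)).obj Y),
    act a Y' (((hh X (X.usC.obj K)).map f).hom z) = ((hh X (X.usC.obj K)).map f).hom (act a Y z)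
  gen : ∀ Y : CochainComplex C ℤ, F5.Bdd Y → ∀ Z : AddSubgroup ((hh X (X.usC.obj K)).obj Y),
    invG X γ e₀ T.TC T.data K Y ≤ Z → (∀ (a : P), ∀ z ∈ Z, act a Y z ∈ Z) → Z = ⊤

/-- `RG`-representability of `h_Ψ` on push-forwards -/
theorem exists_rep [IsNoetherianRing A] (Xa : ModuleCat.{u} A ⥤ (Dp ⥤ AddCommGrpCat.{u})) [Xa.Additive]
    (e : Xa ⋙ rF _ ≅ X.ul ⋙ γ) (e0 : forget₂ (ModuleCat.{u} A) AddCommGrpCat.{u} ≅ Xa ⋙ eF _)
    (hX : ∀ M : ModuleCat.{u} A, AugExact (Xa.obj M)) (Ψ : CochainComplex C ℤ) (a b : ℤ) (hge : Ψ.IsStrictlyGE a)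
    (hflat : ∀ n : ℤ, Module.Flat A (X.us.obj (Ψ.X n)))
    (hfin : ∀ n : ℤ, Module.Finite A ((X.usC.obj Ψ).homology n))
    (hvan : ∀ (N : ModuleCat.{u} A) (n : ℤ), b < n → IsZero ((K476.Mum.tens (X.usC.obj Ψ) N).homology n)) :
    ∃ (Q : CM A) (q : (hPsi T.TC γ Ψ).obj (X.ulC.obj Q)), Perf Q ∧ RepOn X (hPsi T.TC γ Ψ) Q q := by
  have hge' : (X.usC.obj Ψ).IsStrictlyGE a := by
    rw [CochainComplex.isStrictlyGE_iff] at hge ⊢
    exact fun i hi => X.us.map_isZero (hge i hi)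
  exact exists_repOn X γ Xa (T.TC.map₂CochainComplex.flip.obj Ψ) (X.usC.obj Ψ) a b hge' hflat hfin hvan (T.proj Ψ)
    e e0 hX

/-- the datum `Theta3` -/
noncomputable def theta3G [IsNoetherianRing A] [HasColimitsOfSize.{u, u} C] [PreservesColimitsOfSize.{u, u} γ]
    (Xa : ModuleCat.{u} A ⥤ (Dp ⥤ AddCommGrpCat.{u})) [Xa.Additive]
    (e : Xa ⋙ rF _ ≅ X.ul ⋙ γ) (e0 : forget₂ (ModuleCat.{u} A) AddCommGrpCat.{u} ≅ Xa ⋙ eF _)
    (hX : ∀ M : ModuleCat.{u} A, AugExact (Xa.obj M))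
    (D : K654.RepDatum.{u} X) (G : GenG.{p} X T γ e₀ D.K)
    (hac : ∀ Y : CochainComplex C ℤ, F5.Bdd Y → ∀ j < 0,
      Acyc (RG γ) (((T.TC.map₂CochainComplex.obj Y).obj D.K).homology j)) :
    Theta3.{p, u, u} X (X.usC.obj D.K) where
  P := G.P
  act := G.act
  act_nat := G.act_nat
  ι := D.J
  h i := hPsi T.TC γ (D.Ψ.obj i)
  coh i := by
    have := D.ge i
    exact F5.coh_hPsi X T.TC T.data (RG γ) (isTheta_RG γ) (D.Ψ.obj i) D.a (D.flat i)
  Q i := (exists_rep X T γ Xa e e0 hX (D.Ψ.obj i) D.a D.b (D.ge i) (D.flat i) (D.fin i) (D.van i)).choose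
  perf i := (exists_rep X T γ Xa e e0 hX (D.Ψ.obj i) D.a D.b (D.ge i) (D.flat i) (D.fin i)
    (D.van i)).choose_spec.choose_spec.1
  q i := (exists_rep X T γ Xa e e0 hX (D.Ψ.obj i) D.a D.b (D.ge i) (D.flat i) (D.fin i)
    (D.van i)).choose_spec.choose
  rep i := (exists_rep X T γ Xa e e0 hX (D.Ψ.obj i) D.a D.b (D.ge i) (D.flat i) (D.fin i)
    (D.van i)).choose_spec.choose_spec.2
  ev i Y y := evFun X T.TC T.data γ e₀ (D.c.ι.app i ≫ D.e) Y y
  ev_nat i Y Y' _ _ f y := evFun_nat X T.TC T.data γ e₀ (D.c.ι.app i ≫ D.e) f y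
  gen Y hY Z h1 h2 := G.gen Y hY Z (fun z hz => by
    have h3 : ∀ M : C, PreservesColimitsOfSize.{u, u} (T.TC.obj M) := T.colim'
    obtain ⟨i, y, rfl⟩ := exists_of_mem_invG X γ e₀ T.TC T.data D Y hY (hac Y hY) hz
    exact h1 i y) h2

/-- **F5, O-free form** -/
theorem allHit_of_repG [IsNoetherianRing A] [HasColimitsOfSize.{u, u} C] [PreservesColimitsOfSize.{u, u} γ]
    (Xa : ModuleCat.{u} A ⥤ (Dp ⥤ AddCommGrpCat.{u})) [Xa.Additive]
    (e : Xa ⋙ rF _ ≅ X.ul ⋙ γ) (e0 : forget₂ (ModuleCat.{u} A) AddCommGrpCat.{u} ≅ Xa ⋙ eF _)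
    (hX : ∀ M : ModuleCat.{u} A, AugExact (Xa.obj M))
    (D : K654.RepDatum.{u} X) (G : GenG.{p} X T γ e₀ D.K)
    (hac : ∀ Y : CochainComplex C ℤ, F5.Bdd Y → ∀ j < 0,
      Acyc (RG γ) (((T.TC.map₂CochainComplex.obj Y).obj D.K).homology j)) :
    AllHit X (X.usC.obj D.K) :=
  allHit3 (theta3G X T γ e₀ Xa e e0 hX D G hac)

end Groth.Agent.ResProp.EF.K110
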