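import Groth.Agent.ResProp.EF.K110.Fin5
import Groth.Agent.ResProp.EF.K476.CobInst
import Groth.Agent.ResProp.EF.X56.ChartF

/-!
# F5 for the chart of a groupoid ring, without the unit object

`[Fact (GR A)]`, `X = EF56.chartF A`, `T = tchartF A` (911's `comodTChart`), `γ = K476.CobInst.cob A`,
`e₀ = cobZ A` (degree `0` of the cobar functor is the chart).

* `GenC A K` : the output of (c4);
* `allHit_comod` : **RepDatum, GenC, acyclicity ⟹ AllHit (chartF A)**.
* `invG_le_iff` : the invariant classes are the classes of the `z : H^0(Y ⊗ K)⟨0⟩` on which the two cofaces agree.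
-/

set_option autoImplicit false
set_option backward.defeqAttrib.useBackward true
set_option backward.isDefEq.respectTransparency false
set_option backward.isDefEq.respectTransparency.types false
set_option linter.dupNamespace false
set_option linter.style.haveILetI false

universe p u

open CategoryTheory CategoryTheory.Limits HomologicalComplex Opposite

namespace Groth.Agent.ResProp.EF.K110

open Groth.Agent.ResProp.EF.K294 Groth.Agent.PerfB.RingKFlat Groth.Agent.PerfB Groth.Agent.ResProp.EF.F5
  Groth.Agent.ResProp.EF.K874 Groth.Agent.ResProp.EF.K792 Groth.Agent.ResProp.EF.K517 K781.Desc EF56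
  K476.CobInst K741.RP

attribute [local instance] K911.TChart.add K911.TChart.add_obj K911.TChart.hmb

variable (A : NFᵒᵖ ⥤ CommRingCat.{u}) [hA : Fact (GR A)]

/-- the tensor structure on the chart (helper911) -/
noncomputable def tchartF : K911.TChart (chartF A) := K911.comodTChart hA.out

/-- degree `0` of the cobar functor -/
noncomputable def cobZ : c0 (cob A) ≅ usG (chartF A) := cobZero A

/-- `Y ⊗ K` in complexes of comodules -/
noncomputable abbrev tenF (Y K : CochainComplex (Comod A) ℤ) : CochainComplex (Comod A) ℤ :=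
  ((tchartF A).TC.map₂CochainComplex.obj Y).obj K

/-- the class in `H^0(us Y ⊗ us K)` of an element of `H^0(Y ⊗ K)⟨0⟩` -/
noncomputable def clsF (K Y : CochainComplex (Comod A) ℤ) :
    (c0 (cob A)).obj ((tenF A Y K).homology 0) →+ (hh (chartF A) ((chartF A).usC.obj K)).obj Y :=
  cls (chartF A) (cob A) (cobZ A) (tchartF A).TC (tchartF A).data K Y

/-- the invariant classes -/
noncomputable def invF (K Y : CochainComplex (Comod A) ℤ) :
    AddSubgroup ((hh (chartF A) ((chartF A).usC.obj K)).obj Y) :=
  invG (chartF A) (cob A) (cobZ A) (tchartF A).TC (tchartF A).data K Y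

/-- the output of (c4) for the chart of `A` -/
abbrev GenC (K : CochainComplex (Comod A) ℤ) := GenG.{p} (chartF A) (tchartF A) (cob A) (cobZ A) K

lemma invF_le_iff (K Y : CochainComplex (Comod A) ℤ)
    (Z : AddSubgroup ((hh (chartF A) ((chartF A).usC.obj K)).obj Y)) :
    invF A K Y ≤ Z ↔ ∀ z : (c0 (cob A)).obj ((tenF A Y K).homology 0),
      (((cob A).obj ((tenF A Y K).homology 0)).map (SimplexCategory.δ 0)).hom z =
        (((cob A).obj ((tenF A Y K).homology 0)).map (SimplexCategory.δ 1)).hom z → clsF A K Y z ∈ Z := by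
  constructor
  · intro h z hz
    exact h ⟨z, (mem_inv_iff (cob A) _ z).2 hz, rfl⟩
  · rintro h _ ⟨z, hz, rfl⟩
    exact h z ((mem_inv_iff (cob A) _ z).1 hz)

/-- **F5 for the chart of a groupoid ring** -/
theorem allHit_comod [IsNoetherianRing (A.obj (op ⟨0⟩))] (D : K654.RepDatum.{u} (chartF A)) (G : GenC.{p} A D.K)
    (hac : ∀ Y : CochainComplex (Comod A) ℤ, F5.Bdd Y → ∀ j < 0, Acyc (RG (cob A)) ((tenF A Y D.K).homology j)) :
    AllHit (chartF A) ((chartF A).usC.obj D.K) := by
  haveI : HasColimitsOfSize.{u, u} (Comod A) := inferInstance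
  exact allHit_of_repG (chartF A) (tchartF A) (cob A) (cobZ A) (XX hA.out) (eIso' hA.out (chartF A).adj)
    (e0Iso hA.out) (augExact hA.out) D G hac

end Groth.Agent.ResProp.EF.K110
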