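import Mathlib

/-!
# Comparison of homological functors on bounded complexes by dimension shifting

Abstract lemma for the duals in the paper proof of S16912 (566 (A), 412 (iii), 926): a natural
transformation of homological functors on `DerivedCategory C` which is an isomorphism on all
shifts of enough "big" objects and whose source and target vanish far out on one side is an
isomorphism on all bounded complexes.
-/

universe w v u v' u'

namespace Groth.Agent.ResProp.EF.K110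

open CategoryTheory Limits Pretriangulated DerivedCategory

section Pre

variable {D : Type*} [Category* D] [Preadditive D] [HasZeroObject D] [HasShift D ℤ]
  [∀ n : ℤ, (shiftFunctor D n).Additive] [Pretriangulated D]
  {A : Type*} [Category* A] [Abelian A]
  (F G : D ⥤ A) [F.IsHomological] [G.IsHomological] (τ : F ⟶ G)

/-- The row `F(T₃[-1]) ⟶ F(T₁) ⟶ F(T₂) ⟶ F(T₃)` (exact for `T` distinguished). -/
noncomputable def row (T : Triangle D) : ComposableArrows A 3 :=
  ComposableArrows.mk₃ (F.map T.invRotate.mor₁) (F.map T.mor₁) (F.map T.mor₂)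

lemma row_exact (T : Triangle D) (hT : T ∈ distTriang D) : (row F T).Exact := by
  have h1 := F.map_distinguished_exact _ hT
  have h0 := F.map_distinguished_exact _ (inv_rot_of_distTriang _ hT)
  exact ComposableArrows.exact_of_δ₀ h0.exact_toComposableArrows h1.exact_toComposableArrows

variable {F G} in
/-- The map of rows. -/
noncomputable def rowMap (T : Triangle D) : row F T ⟶ row G T :=
  ComposableArrows.homMk₃ (τ.app _) (τ.app _) (τ.app _) (τ.app _)
    (by exact τ.naturality _) (by exact τ.naturality _) (by exact τ.naturality _)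

variable {F G}

lemma mono_obj₁ (T : Triangle D) (hT : T ∈ distTriang D)
    (h2 : Epi (τ.app (T.obj₂⟦(-1 : ℤ)⟧))) (h3 : Mono (τ.app (T.obj₃⟦(-1 : ℤ)⟧)))
    (h2' : Mono (τ.app T.obj₂)) : Mono (τ.app T.obj₁) := by
  have hT' := inv_rot_of_distTriang _ hT
  exact Abelian.mono_of_epi_of_mono_of_mono (rowMap τ T.invRotate)
    (row_exact F _ hT') (row_exact G _ hT') h2 h3 h2'

lemma epi_obj₁ (T : Triangle D) (hT : T ∈ distTriang D)
    (h3 : Epi (τ.app (T.obj₃⟦(-1 : ℤ)⟧))) (h2 : Epi (τ.app T.obj₂))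
    (h3' : Mono (τ.app T.obj₃)) : Epi (τ.app T.obj₁) :=
  Abelian.epi_of_epi_of_epi_of_mono (rowMap τ T)
    (row_exact F _ hT) (row_exact G _ hT) h3 h2 h3'

omit [HasZeroObject D] [∀ n : ℤ, (shiftFunctor D n).Additive] [Pretriangulated D] [Abelian A]
  [F.IsHomological] [G.IsHomological] in
lemma isIso_of_iso {X Y : D} (e : X ≅ Y) (h : IsIso (τ.app X)) : IsIso (τ.app Y) :=
  (NatTrans.isIso_app_iff_of_iso τ e).1 h

/-- Dimension shifting: the shifted form. -/
theorem isIso_shift (H V : ObjectProperty D)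
    (hH : ∀ M, H M → ∃ T : Triangle D, T ∈ distTriang D ∧ Nonempty (T.obj₁ ≅ M) ∧
      V T.obj₂ ∧ H T.obj₃)
    (hV : ∀ X, V X → ∀ n : ℤ, IsIso (τ.app (X⟦n⟧)))
    (n₀ : ℤ) (h0 : ∀ M, H M → ∀ n : ℤ, n ≤ n₀ → IsIso (τ.app (M⟦n⟧)))
    (M : D) (hM : H M) (n : ℤ) : IsIso (τ.app (M⟦n⟧)) := by
  have key : ∀ k : ℕ, ∀ M, H M → IsIso (τ.app (M⟦n₀ + (k : ℤ)⟧)) := by
    intro k
    induction k with
    | zero =>
      intro M hM
      have e : n₀ + ((0 : ℕ) : ℤ) = n₀ := by simp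
      rw [e]
      exact h0 M hM n₀ le_rfl
    | succ k ih =>
      set m : ℤ := n₀ + (k : ℤ) with hm
      have hm' : n₀ + ((k + 1 : ℕ) : ℤ) = m + 1 := by push_cast; lia
      rw [hm']
      have sh (X : D) : (X⟦m + 1⟧)⟦(-1 : ℤ)⟧ ≅ X⟦m⟧ :=
        ((shiftFunctorAdd' D (m + 1) (-1) m (by lia)).app X).symm
      have hmono : ∀ M, H M → Mono (τ.app (M⟦m + 1⟧)) := by
        intro M hM
        obtain ⟨T, hT, ⟨e⟩, hT2, hT3⟩ := hH M hM
        have hTs := Triangle.shift_distinguished T hT (m + 1)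
        have e' : (T.obj₁⟦m + 1⟧) ≅ M⟦m + 1⟧ := (shiftFunctor D (m + 1)).mapIso e
        have a1 : IsIso (τ.app ((T.obj₂⟦m + 1⟧)⟦(-1 : ℤ)⟧)) :=
          isIso_of_iso τ (sh T.obj₂).symm (hV _ hT2 m)
        have a2 : IsIso (τ.app ((T.obj₃⟦m + 1⟧)⟦(-1 : ℤ)⟧)) :=
          isIso_of_iso τ (sh T.obj₃).symm (ih _ hT3)
        have a3 : IsIso (τ.app (T.obj₂⟦m + 1⟧)) := hV _ hT2 _
        have r : Mono (τ.app (T.obj₁⟦m + 1⟧)) :=
          mono_obj₁ τ ((Triangle.shiftFunctor D (m + 1)).obj T) hTs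
            (inferInstanceAs (Epi (τ.app ((T.obj₂⟦m + 1⟧)⟦(-1 : ℤ)⟧))))
            (inferInstanceAs (Mono (τ.app ((T.obj₃⟦m + 1⟧)⟦(-1 : ℤ)⟧))))
            (inferInstanceAs (Mono (τ.app (T.obj₂⟦m + 1⟧))))
        have : τ.app (M⟦m + 1⟧) = F.map e'.inv ≫ τ.app (T.obj₁⟦m + 1⟧) ≫ G.map e'.hom := by
          rw [← τ.naturality, ← Category.assoc, ← F.map_comp]; simp
        rw [this]
        infer_instance
      intro M hM
      obtain ⟨T, hT, ⟨e⟩, hT2, hT3⟩ := hH M hM
      have hTs := Triangle.shift_distinguished T hT (m + 1)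
      have e' : (T.obj₁⟦m + 1⟧) ≅ M⟦m + 1⟧ := (shiftFunctor D (m + 1)).mapIso e
      have a2 : IsIso (τ.app ((T.obj₃⟦m + 1⟧)⟦(-1 : ℤ)⟧)) :=
        isIso_of_iso τ (sh T.obj₃).symm (ih _ hT3)
      have a3 : IsIso (τ.app (T.obj₂⟦m + 1⟧)) := hV _ hT2 _
      have a4 := hmono _ hT3
      have r : Epi (τ.app (T.obj₁⟦m + 1⟧)) :=
        epi_obj₁ τ ((Triangle.shiftFunctor D (m + 1)).obj T) hTs
          (inferInstanceAs (Epi (τ.app ((T.obj₃⟦m + 1⟧)⟦(-1 : ℤ)⟧))))
          (inferInstanceAs (Epi (τ.app (T.obj₂⟦m + 1⟧)))) a4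
      have r2 : Mono (τ.app (M⟦m + 1⟧)) := hmono M hM
      have : τ.app (M⟦m + 1⟧) = F.map e'.inv ≫ τ.app (T.obj₁⟦m + 1⟧) ≫ G.map e'.hom := by
        rw [← τ.naturality, ← Category.assoc, ← F.map_comp]; simp
      have r3 : Epi (τ.app (M⟦m + 1⟧)) := by rw [this]; infer_instance
      exact isIso_of_mono_of_epi _
  rcases le_total n n₀ with h | h
  · exact h0 M hM n h
  · obtain ⟨k, hk⟩ := Int.eq_ofNat_of_zero_le (sub_nonneg.2 h)
    have := key k M hM
    have e : n = n₀ + (k : ℤ) := by lia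
    rw [e]; exact this

variable (F G)

/-- The class of objects all of whose shifts are compared isomorphically. -/
def good : ObjectProperty D := fun X ↦ ∀ n : ℤ, IsIso (τ.app (X⟦n⟧))

variable {F G}

lemma good_iso {X Y : D} (e : X ≅ Y) (h : good F G τ X) : good F G τ Y := fun n ↦
  isIso_of_iso τ ((shiftFunctor D n).mapIso e) (h n)

lemma good_shift {X : D} (h : good F G τ X) (m : ℤ) : good F G τ (X⟦m⟧) := fun n ↦
  isIso_of_iso τ ((shiftFunctorAdd D m n).app X) (h (m + n))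

lemma good_of_shift {X : D} (m : ℤ) (h : good F G τ (X⟦m⟧)) : good F G τ X :=
  good_iso τ (shiftShiftNeg X m) (good_shift τ h (-m))

/-- Two out of three: `T₂` and `T₃` good ⟹ `T₁` good. -/
lemma good_obj₁ (T : Triangle D) (hT : T ∈ distTriang D)
    (h2 : good F G τ T.obj₂) (h3 : good F G τ T.obj₃) : good F G τ T.obj₁ := by
  intro n
  have hTs := Triangle.shift_distinguished T hT n
  have a1 : IsIso (τ.app ((T.obj₂⟦n⟧)⟦(-1 : ℤ)⟧)) := good_shift τ h2 n (-1)
  have a2 : IsIso (τ.app ((T.obj₃⟦n⟧)⟦(-1 : ℤ)⟧)) := good_shift τ h3 n (-1)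
  have a3 : IsIso (τ.app (T.obj₂⟦n⟧)) := h2 n
  have a4 : IsIso (τ.app (T.obj₃⟦n⟧)) := h3 n
  have r1 : Mono (τ.app (T.obj₁⟦n⟧)) :=
    mono_obj₁ τ ((Triangle.shiftFunctor D n).obj T) hTs
      (inferInstanceAs (Epi (τ.app ((T.obj₂⟦n⟧)⟦(-1 : ℤ)⟧))))
      (inferInstanceAs (Mono (τ.app ((T.obj₃⟦n⟧)⟦(-1 : ℤ)⟧))))
      (inferInstanceAs (Mono (τ.app (T.obj₂⟦n⟧))))
  have r2 : Epi (τ.app (T.obj₁⟦n⟧)) :=
    epi_obj₁ τ ((Triangle.shiftFunctor D n).obj T) hTs
      (inferInstanceAs (Epi (τ.app ((T.obj₃⟦n⟧)⟦(-1 : ℤ)⟧))))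
      (inferInstanceAs (Epi (τ.app (T.obj₂⟦n⟧))))
      (inferInstanceAs (Mono (τ.app (T.obj₃⟦n⟧))))
  exact isIso_of_mono_of_epi _

lemma good_obj₂ (T : Triangle D) (hT : T ∈ distTriang D)
    (h1 : good F G τ T.obj₁) (h3 : good F G τ T.obj₃) : good F G τ T.obj₂ :=
  good_obj₁ τ T.rotate (rot_of_distTriang _ hT) h3 (good_shift τ h1 1)

lemma good_obj₃ (T : Triangle D) (hT : T ∈ distTriang D)
    (h1 : good F G τ T.obj₁) (h2 : good F G τ T.obj₂) : good F G τ T.obj₃ :=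
  good_obj₂ τ T.rotate (rot_of_distTriang _ hT) h2 (good_shift τ h1 1)

end Pre

section Derived

variable {C : Type u} [Category.{v} C] [Abelian C] [HasDerivedCategory.{w} C]
  {A : Type*} [Category* A] [Abelian A]
  {F G : DerivedCategory C ⥤ A} [F.IsHomological] [G.IsHomological] (τ : F ⟶ G)

/-- Dévissage of bounded objects: if all objects of the heart are good then so are all bounded
objects. -/
theorem good_of_bounded (h : ∀ M : C, good F G τ ((singleFunctor C 0).obj M))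
    (X : DerivedCategory C) (a b : ℤ) (ha : X.IsGE a) (hb : X.IsLE b) : good F G τ X := by
  have hs : ∀ (M : C) (n : ℤ), good F G τ ((singleFunctor C n).obj M) := by
    intro M n
    have e : (((singleFunctor C n).obj M)⟦n⟧) ≅ (singleFunctor C 0).obj M :=
      ((singleFunctors C).shiftIso n 0 n (by lia)).app M
    exact good_of_shift τ n (good_iso τ e.symm (h M))
  have key : ∀ (k : ℕ) (X : DerivedCategory C), X.IsGE a → X.IsLE (a + (k : ℤ) - 1) →
      good F G τ X := by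
    intro k
    induction k with
    | zero =>
      intro X h1 h2 n
      have hz : IsZero X := TStructure.t.isZero X (a + ((0 : ℕ) : ℤ) - 1) a (by simp)
      have hz' : IsZero (X⟦n⟧) := (shiftFunctor _ n).map_isZero hz
      have z1 := F.map_isZero hz'
      have z2 := G.map_isZero hz'
      exact ⟨0, z1.eq_of_src _ _, z2.eq_of_src _ _⟩
    | succ k ih =>
      intro X h1 h2
      obtain ⟨X', Y, hX', hY, f, g, δ, hT⟩ :=
        TStructure.t.exists_triangle X (a + (k : ℤ) - 1) (a + (k : ℤ)) (by lia)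
      have hX'' : X'.IsLE (a + (k : ℤ) - 1) := ⟨hX'⟩
      have hY'' : Y.IsGE (a + (k : ℤ)) := ⟨hY⟩
      have hYle : Y.IsLE (a + (k : ℤ)) := by
        refine TStructure.t.isLE₂ _ (rot_of_distTriang _ hT) (a + (k : ℤ)) ?_ ?_
        · exact TStructure.t.isLE_of_le X (a + ((k + 1 : ℕ) : ℤ) - 1) _ (by push_cast; lia)
        · have : TStructure.t.IsLE (X'⟦(1 : ℤ)⟧) (a + (k : ℤ) - 2) :=
            TStructure.t.isLE_shift X' (a + (k : ℤ) - 1) 1 _ (by lia)
          exact TStructure.t.isLE_of_le (X'⟦(1 : ℤ)⟧) (a + (k : ℤ) - 2) _ (by lia)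
      have hXge : X'.IsGE a := by
        refine TStructure.t.isGE₂ _ (inv_rot_of_distTriang _ hT) a ?_ ?_
        · have : TStructure.t.IsGE (Y⟦(-1 : ℤ)⟧) (a + (k : ℤ) + 1) :=
            TStructure.t.isGE_shift Y (a + (k : ℤ)) (-1) _ (by lia)
          exact TStructure.t.isGE_of_ge (Y⟦(-1 : ℤ)⟧) a (a + (k : ℤ) + 1) (by lia)
        · exact h1
      obtain ⟨M, ⟨e⟩⟩ := exists_iso_singleFunctor_obj_of_isGE_of_isLE Y (a + (k : ℤ))
      exact good_obj₂ τ _ hT (ih X' hXge hX'') (good_iso τ e.symm (hs M _))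
  rcases le_total (a - 1) b with hab | hab
  · obtain ⟨k, hk⟩ := Int.eq_ofNat_of_zero_le (sub_nonneg.2 hab)
    exact key k X ha (TStructure.t.isLE_of_le X b _ (by lia))
  · exact key 0 X ha (TStructure.t.isLE_of_le X b _ (by push_cast; lia))

/-- **Comparison lemma** (dimension shifting). -/
theorem good_of_embeds (P : ObjectProperty C)
    (hP : ∀ M : C, ∃ (V : C) (i : M ⟶ V), P V ∧ Mono i)
    (hV : ∀ V : C, P V → good F G τ ((singleFunctor C 0).obj V))
    (n₀ : ℤ) (h0 : ∀ (M : C) (n : ℤ), n ≤ n₀ →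
      IsIso (τ.app (((singleFunctor C 0).obj M)⟦n⟧)))
    (X : DerivedCategory C) (a b : ℤ) (ha : X.IsGE a) (hb : X.IsLE b) : good F G τ X := by
  refine good_of_bounded τ (fun M ↦ ?_) X a b ha hb
  let H : ObjectProperty (DerivedCategory C) := fun X ↦ ∃ M, X = (singleFunctor C 0).obj M
  let V : ObjectProperty (DerivedCategory C) :=
    fun X ↦ ∃ M, P M ∧ X = (singleFunctor C 0).obj M
  refine fun n ↦ isIso_shift τ H V ?_ ?_ n₀ ?_ _ ⟨M, rfl⟩ n
  · rintro _ ⟨M, rfl⟩
    obtain ⟨W, i, hW, hi⟩ := hP M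
    have hS : (ShortComplex.mk i (cokernel.π i) (cokernel.condition i)).ShortExact :=
      { exact := ShortComplex.exact_of_g_is_cokernel _ (cokernelIsCokernel i) }
    exact ⟨_, hS.singleTriangle_distinguished, ⟨Iso.refl _⟩, ⟨W, hW, rfl⟩, ⟨_, rfl⟩⟩
  · rintro _ ⟨W, hW, rfl⟩ n
    exact hV W hW n
  · rintro _ ⟨M, rfl⟩ n hn
    exact h0 M n hn

/-- Vanishing version of the hypothesis on the far side. -/
theorem good_of_embeds' (P : ObjectProperty C)
    (hP : ∀ M : C, ∃ (V : C) (i : M ⟶ V), P V ∧ Mono i)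
    (hV : ∀ V : C, P V → good F G τ ((singleFunctor C 0).obj V))
    (n₀ : ℤ) (hF : ∀ (M : C) (n : ℤ), n ≤ n₀ → IsZero (F.obj (((singleFunctor C 0).obj M)⟦n⟧)))
    (hG : ∀ (M : C) (n : ℤ), n ≤ n₀ → IsZero (G.obj (((singleFunctor C 0).obj M)⟦n⟧)))
    (X : DerivedCategory C) (a b : ℤ) (ha : X.IsGE a) (hb : X.IsLE b) : good F G τ X :=
  good_of_embeds τ P hP hV n₀
    (fun M n hn ↦ ⟨0, (hF M n hn).eq_of_src _ _, (hG M n hn).eq_of_src _ _⟩) X a b ha hb

end Derived

section Yoneda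

variable {C : Type u} [Category.{v} C] [Abelian C] [HasDerivedCategory.{w} C]
  (G : DerivedCategory C ⥤ AddCommGrpCat.{w}) [G.IsHomological]
  (T : DerivedCategory C) (c : G.obj T)

/-- The natural transformation `Hom(T, -) ⟶ G` of a class `c ∈ G(T)`. -/
noncomputable def yo : preadditiveCoyoneda.obj (Opposite.op T) ⟶ G where
  app X := AddCommGrpCat.ofHom
    { toFun := fun (g : T ⟶ X) ↦ G.map g c
      map_zero' := by
        change G.map (0 : T ⟶ X) c = 0
        rw [G.map_zero]; rfl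
      map_add' := fun (g g' : T ⟶ X) ↦ by
        change G.map (g + g' : T ⟶ X) c = _
        rw [G.map_add]; rfl }
  naturality X Y f := by
    ext (g : T ⟶ X)
    change G.map (g ≫ f) c = G.map f (G.map g c)
    rw [G.map_comp]; rfl

@[simp]
lemma yo_app_apply (X : DerivedCategory C) (g : T ⟶ X) : (yo G T c).app X g = G.map g c := rfl

/-- **Representability from one class.** If `Hom(T, V⟦n⟧) → G(V⟦n⟧)`, `g ↦ G(g)(c)` is bijective
for all `V` in a class `P` of objects of `C` in which every object embeds, and both functors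
vanish on `M⟦n⟧` for `n ≪ 0` uniformly in `M`, then `g ↦ G(g)(c)` is bijective on all bounded
objects. -/
theorem bijective_of_embeds (P : ObjectProperty C)
    (hP : ∀ M : C, ∃ (V : C) (i : M ⟶ V), P V ∧ Mono i)
    (hV : ∀ V : C, P V → ∀ n : ℤ, Function.Bijective
      (fun (g : T ⟶ (((singleFunctor C 0).obj V)⟦n⟧)) ↦ G.map g c))
    (n₀ : ℤ) (hF : ∀ (M : C) (n : ℤ), n ≤ n₀ →
      ∀ g : T ⟶ (((singleFunctor C 0).obj M)⟦n⟧), g = 0)
    (hG : ∀ (M : C) (n : ℤ), n ≤ n₀ → ∀ y : G.obj (((singleFunctor C 0).obj M)⟦n⟧), y = 0)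
    (X : DerivedCategory C) (a b : ℤ) (ha : X.IsGE a) (hb : X.IsLE b) :
    Function.Bijective (fun (g : T ⟶ X) ↦ G.map g c) := by
  have main := good_of_embeds (yo G T c) P hP (fun V hV' n ↦ by
      refine (ConcreteCategory.isIso_iff_bijective _).2 ?_
      exact hV V hV' n) n₀ (fun M n hn ↦ by
      refine (ConcreteCategory.isIso_iff_bijective _).2 ?_
      refine ⟨fun (g : T ⟶ _) (g' : T ⟶ _) _ ↦ (hF M n hn g).trans (hF M n hn g').symm,
        fun y ↦ ⟨(0 : T ⟶ _), ?_⟩⟩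
      rw [hG M n hn y]; exact hG M n hn _) X a b ha hb 0
  have main' : IsIso ((yo G T c).app X) :=
    isIso_of_iso (yo G T c) ((shiftFunctorZero _ ℤ).app X) main
  exact (ConcreteCategory.isIso_iff_bijective _).1 main'

/-- **The hit form**: under the hypotheses of `bijective_of_embeds`, every `y ∈ G(Q K)`, `K` a
bounded complex, is the image of the class `c` under an honest chain map from a complex
isomorphic to `T` in the derived category. -/
theorem exists_hit (P : ObjectProperty C)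
    (hP : ∀ M : C, ∃ (V : C) (i : M ⟶ V), P V ∧ Mono i)
    (hV : ∀ V : C, P V → ∀ n : ℤ, Function.Bijective
      (fun (g : T ⟶ (((singleFunctor C 0).obj V)⟦n⟧)) ↦ G.map g c))
    (n₀ : ℤ) (hF : ∀ (M : C) (n : ℤ), n ≤ n₀ →
      ∀ g : T ⟶ (((singleFunctor C 0).obj M)⟦n⟧), g = 0)
    (hG : ∀ (M : C) (n : ℤ), n ≤ n₀ → ∀ y : G.obj (((singleFunctor C 0).obj M)⟦n⟧), y = 0)
    (K : CochainComplex C ℤ) (a b : ℤ) (ha : K.IsGE a) (hb : K.IsLE b)
    (y : G.obj (Q.obj K)) :
    ∃ (T' : CochainComplex C ℤ) (e : T ≅ Q.obj T') (f : T' ⟶ K),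
      G.map (Q.map f) (G.map e.hom c) = y := by
  obtain ⟨g, hg⟩ := (bijective_of_embeds G T c P hP hV n₀ hF hG (Q.obj K) a b
    inferInstance inferInstance).2 y
  let e₀ : Q.obj (Q.objPreimage T) ≅ T := Q.objObjPreimageIso T
  obtain ⟨T', s, hs, f, hf⟩ := right_fac (e₀.hom ≫ g)
  refine ⟨T', e₀.symm ≪≫ (asIso (Q.map s)).symm, f, ?_⟩
  rw [← ConcreteCategory.comp_apply, ← G.map_comp]
  have : (e₀.symm ≪≫ (asIso (Q.map s)).symm).hom ≫ Q.map f = g := by
    simp only [Iso.trans_hom, Iso.symm_hom, asIso_inv, Category.assoc]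
    rw [← hf]; simp
  rw [this]; exact hg

end Yoneda

end Groth.Agent.ResProp.EF.K110
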